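import Groth.Agent.LC16.PunctFin
import Groth.Agent.LC16.StalkMod
import Groth.Agent.LC15.CritDepth
import Groth.Agent.CAlg9.DepthAlongOpen
import Groth.Agent.FBase64.RestrictStalk
import Groth.Prelude.Def_SGA2

/-! Finiteness of the low cohomology of a coherent sheaf on an open of an affine scheme, from
depth at the codimension-one points. -/

set_option autoImplicit false
set_option linter.style.haveILetI false
set_option maxHeartbeats 800000
set_option backward.isDefEq.respectTransparency.types false

noncomputable section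

universe u

open CategoryTheory Limits AlgebraicGeometry TopologicalSpace Opposite

namespace Groth.Agent.FDepth18

open Groth.Agent.LC15 Groth.Agent.LC16

/-- The composite of a localization with the inclusion of a saturating submodule is a localization. -/
theorem isLocalizedModule_comp_subtype {A : Type u} [CommRing A] (S : Submonoid A) {T N : Type u}
    [AddCommGroup T] [Module A T] [AddCommGroup N] [Module A N] (f : T →ₗ[A] N)
    [IsLocalizedModule S f] (M : Submodule A T) (hM : ∀ x : T, ∃ s : S, (s : A) • x ∈ M) :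
    IsLocalizedModule S (f.comp M.subtype) where
  map_units := IsLocalizedModule.map_units f
  surj y := by
    obtain ⟨⟨x, s⟩, h⟩ := IsLocalizedModule.surj S f y
    obtain ⟨c, hc⟩ := hM x
    refine ⟨(⟨(c : A) • x, hc⟩, c * s), ?_⟩
    change ((c : A) * (s : A)) • y = f ((c : A) • x)
    rw [mul_smul, map_smul]
    exact congrArg ((c : A) • ·) h
  exists_of_eq {x₁ x₂} h := by
    obtain ⟨c, hc⟩ := IsLocalizedModule.exists_of_eq (S := S) (f := f) h
    exact ⟨c, Subtype.ext hc⟩

/-- Depth of a stalk of a tilde, computed on a saturating finite submodule. -/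
theorem natCast_le_depth_tilde_stalk {R : CommRingCat.{u}} [IsNoetherianRing R] (T : ModuleCat.{u} R)
    (M : Submodule R T) [Module.Finite R M] (p : Spec R)
    (hM : ∀ x : T, ∃ s : p.asIdeal.primeCompl, (s : R) • x ∈ M) (n : ℕ) :
    (n : ℕ∞) ≤ LocCoh.depth ((Spec R).presheaf.stalk p) ((tilde T).presheaf.stalk p) ↔
    (n : ℕ∞) ≤ LocCoh.depth (Localization.AtPrime p.asIdeal)
      (LocalizedModule p.asIdeal.primeCompl M) := by
  letI : Algebra R ((Spec R).presheaf.stalk p) := StructureSheaf.stalkAlgebra R p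
  haveI : IsLocalization.AtPrime ((Spec R).presheaf.stalk p) p.asIdeal :=
    StructureSheaf.IsLocalization.to_stalk R p
  haveI : IsScalarTower R ((Spec R).presheaf.stalk p) ((tilde T).presheaf.stalk p) :=
    IsScalarTower.of_algebraMap_smul fun _ _ => rfl
  haveI := isLocalizedModule_comp_subtype p.asIdeal.primeCompl (tilde.toStalk T p).hom M hM
  rw [CAlg9.DepthAlongOpen.natCast_le_depth_model p.asIdeal _
    ((tilde.toStalk T p).hom.comp M.subtype) n]
  exact (LC17.natCast_le_depth_loc_iff (M := M) p.asIdeal n).symm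

variable {A : Type u} [CommRing A] [IsNoetherianRing A] (I : Ideal A)

/-- A coherent sheaf on the open is the restriction of a tilde with a saturating finite submodule. -/
theorem exists_model (F : (PH.US I).Modules) (hF : Coh.IsCoh F) :
    ∃ (T : ModuleCat.{u} A) (_ : F ≅ PH.psi I T) (M : Submodule A T),
      Module.Finite A M ∧ LocCoh.IsPowerTorsion I (T ⧸ M) := by
  classical
  haveI := hF.1
  haveI := hF.2
  obtain ⟨T, ⟨e⟩⟩ := QCRes72.exists_iso_restrict_tilde (R := CommRingCat.of A)
    (LC15.PU.isCompact_UU I (IsNoetherian.noetherian I)) F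
  obtain ⟨s, hs⟩ := IsNoetherian.noetherian I
  choose Mf hMfg hMf using fun f : s => PH.exists_fg_away (R := CommRingCat.of A) T (f : A)
    (PH.finite_sections_basicOpen I T F e (hs ▸ Submodule.subset_span f.2))
  refine ⟨T, e, ⨆ f : s, Mf f, Module.Finite.iff_fg.mpr (Submodule.fg_iSup _ hMfg), ?_⟩
  intro q
  obtain ⟨x, rfl⟩ := Submodule.Quotient.mk_surjective (⨆ f : s, Mf f) q
  have hle : I ≤ (Submodule.span A
      {(Submodule.Quotient.mk x : T ⧸ (⨆ f : s, Mf f : Submodule A T))}).annihilator.radical := by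
    rw [← hs]
    refine Submodule.span_le.2 fun f hf => ?_
    obtain ⟨n, hn⟩ := hMf ⟨f, hf⟩ x
    refine ⟨n, (Submodule.mem_annihilator_span_singleton _ _).2 ?_⟩
    rw [← Submodule.Quotient.mk_smul, Submodule.Quotient.mk_eq_zero]
    exact Submodule.mem_iSup_of_mem _ hn
  obtain ⟨n, hn⟩ := Ideal.exists_pow_le_of_le_radical_of_fg hle (IsNoetherian.noetherian I)
  exact ⟨n, fun a ha => (Submodule.mem_annihilator_span_singleton _ a).1 (hn ha)⟩

/-- Depth of the stalks of the sheaf, computed on the finite submodule. -/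
theorem natCast_le_depth_stalk (T : ModuleCat.{u} A) (M : Submodule A T) [Module.Finite A M]
    (htors : LocCoh.IsPowerTorsion I (T ⧸ M)) (F : (PH.US I).Modules) (hF : Coh.IsCoh F)
    (e : F ≅ PH.psi I T) (x : PH.US I) (n : ℕ)
    (h : (n : ℕ∞) ≤ LocCoh.depth ((PH.US I).presheaf.stalk x) (F.presheaf.stalk x)) :
    (n : ℕ∞) ≤ LocCoh.depth (Localization.AtPrime ((PH.UU I).ι x).asIdeal)
      (LocalizedModule ((PH.UU I).ι x).asIdeal.primeCompl M) := by
  haveI := hF.1
  haveI := hF.2
  let j := (PH.UU I).ι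
  haveI : IsNoetherianRing (CommRingCat.of A) := inferInstanceAs (IsNoetherianRing A)
  let G : (Spec (CommRingCat.of A)).Modules := tilde (R := CommRingCat.of A) T
  have hp : ¬ I ≤ (j x).asIdeal := x.2
  refine (natCast_le_depth_tilde_stalk (R := CommRingCat.of A) T M (j x) (fun y => ?_) n).1 ?_
  · obtain ⟨a, haI, hap⟩ := SetLike.not_le_iff_exists.1 hp
    obtain ⟨k, hk⟩ := htors (Submodule.Quotient.mk y)
    refine ⟨⟨a ^ k, fun h => hap ((j x).isPrime.mem_of_pow_mem k h)⟩, ?_⟩
    have := hk (a ^ k) (Ideal.pow_mem_pow haI k)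
    rwa [← Submodule.Quotient.mk_smul, Submodule.Quotient.mk_eq_zero] at this
  let l : F.presheaf.stalk x ≃ₗ[(PH.US I).presheaf.stalk x] (G.restrict j).presheaf.stalk x :=
    LinearEquiv.ofBijective (QC70.stalkLinear e.hom x)
      ⟨QC70.injective_stalkMapM_of_mono _ x, QC70.surjective_stalkMapM_of_epi _ x⟩
  haveI : Module.Finite ((PH.US I).presheaf.stalk x) (F.presheaf.stalk x) := QC70.finite_stalk F x
  haveI : Module.Finite ((PH.US I).presheaf.stalk x) ((G.restrict j).presheaf.stalk x) :=
    Module.Finite.equiv l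
  let σ := (asIso (j.stalkMap x)).commRingCatIsoToRingEquiv
  let r := FBase64.AssSheaf.restrictStalkEquiv j G x
  have key := (StalkMod.invariants_of_semilinear σ.symm _ _ r.symm (fun c m => by
    apply r.injective
    rw [AddEquiv.apply_symm_apply, FBase64.AssSheaf.restrictStalkEquiv_smul,
      AddEquiv.apply_symm_apply]
    exact congrArg (· • m) (σ.apply_symm_apply c).symm)).1
  rw [EGA4Alg4.depth_eq_of_equiv l, key] at h
  exact h

/-- The map on `H^0` from a saturating submodule is onto. -/
theorem hmap_zero_surjective (T : ModuleCat.{u} A) (M : Submodule A T)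
    (htors : LocCoh.IsPowerTorsion I (T ⧸ M)) :
    Function.Surjective (Crv77.hmap A
      ((PH.psiF I).map (ModuleCat.ofHom (M.subtype : M →ₗ[A] T))) 0) := by
  have hex := LinearMap.exact_subtype_mkQ M
  have hS := PH.psiSC_shortExact I M.injective_subtype hex (Submodule.mkQ_surjective M)
  intro y
  refine (Crv77.exact_f_g A hS 0 y).1 ?_
  have hC : ∀ z : Coh.HH (PH.US I) (PH.psi I (ModuleCat.of A (T ⧸ M))) 0, z = 0 := by
    intro z
    obtain ⟨ε⟩ := PH.nonempty_coker_eta I (T ⧸ M)
    haveI := subsingleton_H_of_powerTorsion I htors Nat.one_pos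
    obtain ⟨c, rfl⟩ := (Submodule.Quotient.mk_eq_zero _).1 (ε.injective (Subsingleton.elim
      (ε (Submodule.Quotient.mk z)) (ε 0)))
    exact (PH.eta_eq_zero_iff I (ModuleCat.of A (T ⧸ M)) c).2 ((mem_gamma I).2 (htors c))
  exact hC _

/-- Low cohomology is finite when the depth at the codimension-one points is large. -/
theorem finite_HH {R : Type u} [CommRing R] [IsRegularRing R] (π : R →+* A)
    (hπ : Function.Surjective π) (F : (PH.US I).Modules) (hF : Coh.IsCoh F) (n : ℕ)
    (hdepth : ∀ x : PH.US I, SGA2.relCodim I ((PH.UU I).ι x) = 1 → ((n + 1 : ℕ) : ℕ∞) ≤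
      LocCoh.depth ((PH.US I).presheaf.stalk x) (F.presheaf.stalk x)) (i : ℕ) (hi : i ≤ n) :
    Module.Finite A (Coh.HH (PH.US I) F i) := by
  obtain ⟨T, e, M, hM, htors⟩ := exists_model I F hF
  have hH : ∀ j, j ≤ n + 1 → Module.Finite A (LocCoh.H I j M) :=
    (CritDepth.finite_iff_codim_one π hπ I M (n + 1)).2 fun p hp hc =>
      natCast_le_depth_stalk I T M htors F hF e ⟨p, hp⟩ (n + 1) (hdepth ⟨p, hp⟩ hc)
  let ε : Coh.HH (PH.US I) F i ≃ₗ[A] Coh.HH (PH.US I) (PH.psi I T) i := Crv77.hEquiv A e i
  suffices Module.Finite A (Coh.HH (PH.US I) (PH.psi I T) i) from Module.Finite.equiv ε.symm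
  match i with
  | 0 =>
    let φ := PH.eta I (ModuleCat.of A M)
    haveI : Module.Finite A (LinearMap.range φ) := Module.Finite.range φ
    haveI := hH 1 (by omega)
    obtain ⟨ε'⟩ := PH.nonempty_coker_eta I M
    haveI : Module.Finite A (Coh.HH (PH.US I) (PH.psi I (ModuleCat.of A M)) 0 ⧸ LinearMap.range φ) :=
      Module.Finite.equiv ε'.symm
    haveI := Module.Finite.of_submodule_quotient (LinearMap.range φ)
    haveI : Module.Finite A
        (Coh.HH (PH.US I) ((PH.psiF I).obj (ModuleCat.of A M)) 0) := ‹Module.Finite A (Coh.HH _ (PH.psi I (ModuleCat.of A M)) 0)›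
    exact Module.Finite.of_surjective _ (hmap_zero_surjective I T M htors)
  | p + 1 =>
    obtain ⟨θ⟩ := PH.nonempty_HH_equiv I p (T : Type u)
    haveI := hH (p + 2) (by omega)
    refine Module.Finite.of_surjective (θ.symm.toLinearMap.comp (Hmap I (p + 2) M.subtype))
      (θ.symm.surjective.comp fun y => ?_)
    exact (H_exact₂ I (p + 2) M.injective_subtype (LinearMap.exact_subtype_mkQ M)
      (Submodule.mkQ_surjective M) y).1
      ((subsingleton_H_of_powerTorsion I htors (by omega)).elim _ _)

end Groth.Agent.FDepth18
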