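import Groth.Agent.Crv77.HH
import Groth.Agent.FF71.Limit
import Groth.Prelude.Def_Formal
import Groth.Prelude.Def_KLin

/-! Cohomology and the limit of the cohomology of `F/t^(k+1)F` when the cohomology is finite. -/

set_option autoImplicit false
set_option linter.style.haveILetI false
set_option maxHeartbeats 800000
set_option backward.isDefEq.respectTransparency.types false

noncomputable section

universe u

open CategoryTheory Limits AlgebraicGeometry TopologicalSpace Opposite

namespace Groth.Agent.FDepth18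

/-- A finite module has bounded `t`-power torsion. -/
theorem exists_torsion_bound {A : Type u} [CommRing A] [IsNoetherianRing A] (t : A) (H : Type u)
    [AddCommGroup H] [Module A H] [Module.Finite A H] :
    ∃ N : ℕ, ∀ (k : ℕ) (y : H), t ^ k • y = 0 → t ^ N • y = 0 := by
  let f : H →ₗ[A] H := t • LinearMap.id
  have hf : ∀ (k : ℕ) (y : H), (f ^ k) y = t ^ k • y := by
    intro k
    induction k with
    | zero => intro y; simp
    | succ k ih =>
      intro y
      rw [pow_succ', Module.End.mul_apply, ih, pow_succ', mul_smul]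
      rfl
  haveI : IsNoetherian A H := isNoetherian_of_isNoetherianRing_of_finite A H
  obtain ⟨N, hN⟩ := monotone_stabilizes_iff_noetherian.mpr inferInstance f.iterateKer
  refine ⟨N, fun k y hy => ?_⟩
  rcases le_total k N with h | h
  · obtain ⟨d, rfl⟩ := Nat.exists_eq_add_of_le h
    rw [add_comm, pow_add, mul_smul, hy, smul_zero]
  · have h1 : y ∈ f.iterateKer k := by
      show (f ^ k) y = 0
      rw [hf, hy]
    rw [← hN k h] at h1
    rw [← hf]
    exact h1

variable {A : Type u} [CommRing A] {X : Scheme.{u}} [X.Over (Spec (CommRingCat.of A))] (t : A)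
  (F : X.Modules)

theorem smulMod_mul' (a b : A) :
    Formal.smulMod A F (a * b) = Formal.smulMod A F a ≫ Formal.smulMod A F b := by
  unfold Formal.smulMod
  rw [map_mul, KLin.smulModΓ_mul]

theorem smulFamily_span_comp {Z : X.Modules} (m : ℕ) (g : F ⟶ Z)
    (h : Formal.smulMod A F (t ^ m) ≫ g = 0) :
    Formal.smulFamily (Ideal.span {t} ^ m) F ≫ g = 0 := by
  refine Sigma.hom_ext _ _ fun a => ?_
  obtain ⟨c, hc⟩ := Ideal.mem_span_singleton'.1
    (show (a : A) ∈ Ideal.span {t ^ m} by rw [← Ideal.span_singleton_pow]; exact a.2)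
  rw [comp_zero, ← Category.assoc, show Sigma.ι (fun _ : (Ideal.span {t} ^ m : Ideal A) => F) a ≫
    Formal.smulFamily (Ideal.span {t} ^ m) F = Formal.smulMod A F (a : A) from Sigma.ι_desc _ _,
    ← hc, smulMod_mul', Category.assoc, h, comp_zero]

/-- `t^m : F ⟶ F` followed by the projection to `F/(t)^m F`. -/
abbrev tSC (m : ℕ) : ShortComplex X.Modules :=
  ShortComplex.mk (Formal.smulMod A F (t ^ m)) (Formal.modPowπ (Ideal.span {t}) m F) (by
    rw [← show Sigma.ι (fun _ : (Ideal.span {t} ^ m : Ideal A) => F)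
      ⟨t ^ m, Ideal.pow_mem_pow (Ideal.mem_span_singleton_self t) m⟩ ≫
      Formal.smulFamily (Ideal.span {t} ^ m) F = Formal.smulMod A F (t ^ m) from Sigma.ι_desc _ _,
      Category.assoc]
    exact (congrArg (_ ≫ ·) (cokernel.condition _)).trans comp_zero)

theorem mono_smulMod_pow [Mono (Formal.smulMod A F t)] (m : ℕ) :
    Mono (Formal.smulMod A F (t ^ m)) := by
  induction m with
  | zero =>
    rw [pow_zero, show Formal.smulMod A F 1 = 𝟙 F by
      unfold Formal.smulMod
      rw [map_one, KLin.smulModΓ_one]]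
    infer_instance
  | succ m ih =>
    rw [pow_succ', smulMod_mul']
    exact mono_comp _ _

theorem tSC_shortExact [Mono (Formal.smulMod A F t)] (m : ℕ) : (tSC t F m).ShortExact := by
  haveI : Mono (tSC t F m).f := mono_smulMod_pow t F m
  haveI : Epi (tSC t F m).g := inferInstanceAs (Epi (cokernel.π _))
  refine ShortComplex.ShortExact.mk' (ShortComplex.exact_of_g_is_cokernel _ ?_) inferInstance
    inferInstance
  exact CokernelCofork.IsColimit.ofπ _ _
    (fun g h => cokernel.desc _ g (smulFamily_span_comp t F m g h))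
    (fun g h => cokernel.π_desc _ _ _)
    (fun g h l hl => by
      haveI : Epi (Formal.modPowπ (Ideal.span {t}) m F) := inferInstanceAs (Epi (cokernel.π _))
      rw [← cancel_epi (Formal.modPowπ (Ideal.span {t}) m F), hl]
      exact (cokernel.π_desc _ _ _).symm)

theorem smulMod_toAbF (a : A) :
    (Crv77.toAbF X).map (Formal.smulMod A F a) =
      Coh.smulAb F (Coh.toGlobal (X ↘ Spec (CommRingCat.of A)) a) := by
  ext U s
  rfl

theorem hmap_smulMod (p : ℕ) (a : A) (x : Coh.HH X F p) :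
    Crv77.hmap A (Formal.smulMod A F a) p x = a • x := by
  rw [Crv77.smul_eq_comp, ← smulMod_toAbF]
  rfl

theorem toHHmodPow_eq (p k : ℕ) (x : Coh.HH X F p) :
    Formal.toHHmodPow (Ideal.span {t}) F p k x =
      Crv77.hmap A (tSC t F (k + 1)).g p x := rfl

theorem HHmodPowTrans_eq (p k : ℕ) (x : Formal.HHmodPow (Ideal.span {t}) F p (k + 1)) :
    Formal.HHmodPowTrans (Ideal.span {t}) F p k x =
      Crv77.hmap A (Formal.modPowTrans (Ideal.span {t}) (k + 1) F) p x := rfl

variable [Mono (Formal.smulMod A F t)]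

theorem toHHmodPow_eq_zero_iff (p k : ℕ) (x : Coh.HH X F p) :
    Formal.toHHmodPow (Ideal.span {t}) F p k x = 0 ↔ ∃ y, x = t ^ (k + 1) • y := by
  rw [toHHmodPow_eq]
  refine (Crv77.exact_f_g A (tSC_shortExact t F (k + 1)) p x).trans ?_
  constructor
  · rintro ⟨y, rfl⟩
    exact ⟨y, hmap_smulMod F p _ y⟩
  · rintro ⟨y, rfl⟩
    exact ⟨y, hmap_smulMod F p _ y⟩

/-- Transition on the exact sequences. -/
def tSCHom (k : ℕ) : tSC t F (k + 1 + 1) ⟶ tSC t F (k + 1) where
  τ₁ := Formal.smulMod A F t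
  τ₂ := 𝟙 F
  τ₃ := Formal.modPowTrans (Ideal.span {t}) (k + 1) F
  comm₁₂ := by
    show Formal.smulMod A F t ≫ Formal.smulMod A F (t ^ (k + 1)) =
      Formal.smulMod A F (t ^ (k + 1 + 1)) ≫ 𝟙 F
    rw [← smulMod_mul', Category.comp_id, ← pow_succ']
  comm₂₃ := by
    show 𝟙 F ≫ Formal.modPowπ (Ideal.span {t}) (k + 1) F =
      Formal.modPowπ (Ideal.span {t}) (k + 1 + 1) F ≫ Formal.modPowTrans (Ideal.span {t}) (k + 1) F
    rw [Formal.modPowπ_trans, Category.id_comp]

theorem hδ_natural {S S' : ShortComplex X.Modules} (hS : S.ShortExact) (hS' : S'.ShortExact)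
    (φ : S ⟶ S') (p : ℕ) (x : Coh.HH X S.X₃ p) :
    Crv77.hδ A hS' p (Crv77.hmap A φ.τ₃ p x) = Crv77.hmap A φ.τ₁ (p + 1) (Crv77.hδ A hS p x) := by
  let ψ : Crv77.abComplex S ⟶ Crv77.abComplex S' :=
    { τ₁ := (Crv77.toAbF X).map φ.τ₁
      τ₂ := (Crv77.toAbF X).map φ.τ₂
      τ₃ := (Crv77.toAbF X).map φ.τ₃
      comm₁₂ := by
        show (Crv77.toAbF X).map φ.τ₁ ≫ (Crv77.toAbF X).map S'.f =
          (Crv77.toAbF X).map S.f ≫ (Crv77.toAbF X).map φ.τ₂
        rw [← Functor.map_comp, φ.comm₁₂, Functor.map_comp]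
      comm₂₃ := by
        show (Crv77.toAbF X).map φ.τ₂ ≫ (Crv77.toAbF X).map S'.g =
          (Crv77.toAbF X).map S.g ≫ (Crv77.toAbF X).map φ.τ₃
        rw [← Functor.map_comp, φ.comm₂₃, Functor.map_comp] }
  change Abelian.Ext.comp (Abelian.Ext.comp x (Abelian.Ext.mk₀ ψ.τ₃) (add_zero p))
      (Crv77.abComplex_shortExact hS').extClass rfl =
    Abelian.Ext.comp (Abelian.Ext.comp x (Crv77.abComplex_shortExact hS).extClass rfl)
      (Abelian.Ext.mk₀ ψ.τ₁) (add_zero (p + 1))
  rw [Abelian.Ext.comp_assoc_of_second_deg_zero, Abelian.Ext.comp_assoc_of_third_deg_zero,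
    ShortComplex.ShortExact.extClass_naturality _ _ ψ]

variable [IsNoetherianRing A] [IsAdicComplete (Ideal.span {t}) A]

theorem toHHlim_injective (p : ℕ) [Module.Finite A (Coh.HH X F p)] :
    Function.Injective (Formal.toHHlim (Ideal.span {t}) F p) := by
  haveI : IsHausdorff (Ideal.span {t}) (Coh.HH X F p) :=
    IsHausdorff.of_le_jacobson (Ideal.span {t}) (M := Coh.HH X F p) (IsAdicComplete.le_jacobson_bot (Ideal.span {t}))
  rw [injective_iff_map_eq_zero]
  intro x hx
  refine IsHausdorff.haus ‹_› x fun m => ?_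
  rw [SModEq.zero]
  rcases m with - | k
  · simp
  · obtain ⟨y, rfl⟩ := (toHHmodPow_eq_zero_iff t F p k x).1
      (congrArg (fun z => z.1 k) hx)
    exact Submodule.smul_mem_smul (Ideal.pow_mem_pow (Ideal.mem_span_singleton_self t) _)
      Submodule.mem_top

theorem toHHlim_surjective (p : ℕ) [Module.Finite A (Coh.HH X F p)]
    [Module.Finite A (Coh.HH X F (p + 1))] :
    Function.Surjective (Formal.toHHlim (Ideal.span {t}) F p) := by
  intro x
  obtain ⟨N, hN⟩ := exists_torsion_bound t (Coh.HH X F (p + 1))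
  let δ := fun k => Crv77.hδ A (tSC_shortExact t F (k + 1)) p
  have htor : ∀ k y, t ^ (k + 1) • δ k y = 0 := fun k y => by
    rw [← hmap_smulMod]
    exact Crv77.exact_δ_f A (tSC_shortExact t F (k + 1)) p |>.apply_apply_eq_zero y
  have hstep : ∀ k, δ k (x.1 k) = t • δ (k + 1) (x.1 (k + 1)) := fun k => by
    have hk : Formal.HHmodPowTrans (Ideal.span {t}) F p k (x.1 (k + 1)) = x.1 k := x.2 k
    rw [← hk, HHmodPowTrans_eq]
    exact (hδ_natural (tSC_shortExact t F (k + 1 + 1)) (tSC_shortExact t F (k + 1)) (tSCHom t F k)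
      p _).trans (hmap_smulMod F (p + 1) t _)
  have hiter : ∀ j k, δ k (x.1 k) = t ^ j • δ (k + j) (x.1 (k + j)) := by
    intro j
    induction j with
    | zero => intro k; simp
    | succ j ih =>
      intro k
      rw [ih k, hstep (k + j), smul_smul, ← pow_succ, add_assoc]
  have hzero : ∀ k, δ k (x.1 k) = 0 := fun k => by
    rw [hiter N k]
    exact hN _ _ (htor (k + N) _)
  choose h hh using fun k =>
    (Crv77.exact_g_δ A (tSC_shortExact t F (k + 1)) p (x.1 k)).1 (hzero k)
  replace hh : ∀ k, Formal.toHHmodPow (Ideal.span {t}) F p k (h k) = x.1 k := hh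
  have hdiff : ∀ k, ∃ y, h (k + 1) - h k = t ^ (k + 1) • y := fun k => by
    refine (toHHmodPow_eq_zero_iff t F p k _).1 ?_
    have h1 := (Formal.toHHlim (Ideal.span {t}) F p (h (k + 1))).2 k
    change Formal.HHmodPowTrans _ F p k (Formal.toHHmodPow _ F p (k + 1) (h (k + 1))) =
      Formal.toHHmodPow _ F p k (h (k + 1)) at h1
    rw [map_sub, ← h1, hh, hh, x.2 k, sub_self]
  have hcauchy : ∀ n : ℕ, h n - h (n + 1) ∈
      ((Ideal.span {t}) ^ (n + 1) • ⊤ : Submodule A (Coh.HH X F p)) := fun n => by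
    obtain ⟨y, hy⟩ := hdiff n
    rw [← neg_sub, hy]
    exact neg_mem (Submodule.smul_mem_smul
      (Ideal.pow_mem_pow (Ideal.mem_span_singleton_self t) _) Submodule.mem_top)
  let z : AdicCompletion (Ideal.span {t}) (Coh.HH X F p) :=
    AdicCompletion.mk _ _ (AdicCompletion.AdicCauchySequence.mk _ _ h fun n =>
      SModEq.sub_mem.2 ((Submodule.smul_mono_left (Ideal.pow_le_pow_right (Nat.le_succ n))) (hcauchy n)))
  obtain ⟨w, hw⟩ := (FF71.of_bijective_of_finite (Ideal.span {t}) (H := Coh.HH X F p)).2 z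
  refine ⟨w, Subtype.ext (funext fun k => ?_)⟩
  have h2 : w - h (k + 1) ∈
      ((Ideal.span {t}) ^ (k + 1) • ⊤ : Submodule A (Coh.HH X F p)) := by
    have := congrArg (fun u => u.val (k + 1)) hw
    exact (Submodule.Quotient.eq _).1 this
  have h3 : w - h k ∈ ((Ideal.span {t}) ^ (k + 1) • ⊤ : Submodule A (Coh.HH X F p)) := by
    have := sub_mem h2 (hcauchy k)
    rwa [show w - h (k + 1) - (h k - h (k + 1)) = w - h k by abel] at this
  rw [Ideal.span_singleton_pow, Submodule.ideal_span_singleton_smul,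
    Submodule.mem_smul_pointwise_iff_exists] at h3
  obtain ⟨y, -, hy⟩ := h3
  have h4 : Formal.toHHmodPow (Ideal.span {t}) F p k (w - h k) = 0 :=
    (toHHmodPow_eq_zero_iff t F p k _).2 ⟨y, hy.symm⟩
  rw [map_sub, sub_eq_zero] at h4
  exact h4.trans (hh k)

end Groth.Agent.FDepth18
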