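import Groth.Agent.FDepth18.Finite
import Groth.Agent.FDepth18.Limit
import Groth.Prelude.Def_FEt

/-! Comparison of cohomology with formal cohomology on an open of an affine scheme. -/

set_option autoImplicit false
set_option linter.style.haveILetI false
set_option backward.isDefEq.respectTransparency.types false

noncomputable section

universe u

open CategoryTheory Limits AlgebraicGeometry TopologicalSpace Opposite

namespace Groth.Agent.FDepth18

variable {R : Type u} [CommRing R] [IsRegularRing R] {A : Type u} [CommRing A] [IsNoetherianRing A]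

/-- Cohomology against formal cohomology below the depth bound. -/
theorem bijective_and_injective (π : R →+* A) (hπ : Function.Surjective π) (t : A)
    [IsAdicComplete (Ideal.span {t}) A] (I : Ideal A) (U : (Spec (CommRingCat.of A)).Opens)
    (hU : U = LocCoh.puncturedOpen A I) (F : (↑U : Scheme.{u}).Modules) (hF : Coh.IsCoh F)
    (hreg : Mono (Formal.smulMod A F t)) (n : ℕ)
    (hdepth : ∀ x : (↑U : Scheme.{u}), SGA2.relCodim I (U.ι.base x) = 1 → ((n + 1 : ℕ) : ℕ∞) ≤
      LocCoh.depth ((↑U : Scheme.{u}).presheaf.stalk x) (F.presheaf.stalk x)) (i : ℕ) :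
    (i < n → Function.Bijective (Formal.toHHlim (Ideal.span {t}) F i)) ∧
      (i = n → Function.Injective (Formal.toHHlim (Ideal.span {t}) F i)) := by
  subst hU
  haveI := hreg
  refine ⟨fun hi => ?_, fun hi => ?_⟩
  · haveI : Module.Finite A (Coh.HH (↑(LocCoh.puncturedOpen A I) : Scheme.{u}) F i) :=
      finite_HH I π hπ F hF n hdepth i hi.le
    haveI : Module.Finite A (Coh.HH (↑(LocCoh.puncturedOpen A I) : Scheme.{u}) F (i + 1)) :=
      finite_HH I π hπ F hF n hdepth (i + 1) hi
    exact ⟨toHHlim_injective t F i, toHHlim_surjective t F i⟩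
  · haveI : Module.Finite A (Coh.HH (↑(LocCoh.puncturedOpen A I) : Scheme.{u}) F i) :=
      finite_HH I π hπ F hF n hdepth i hi.le
    exact toHHlim_injective t F i

omit [IsNoetherianRing A] in
/-- The union of the basic opens of the elements of an ideal. -/
theorem iSup_basicOpen_eq (I : Ideal A) :
    (⨆ f : ↥I, (Spec (CommRingCat.of A)).basicOpen
      ((Scheme.ΓSpecIso (CommRingCat.of A)).inv f.1)) = LocCoh.puncturedOpen A I := by
  apply Opens.ext
  ext q
  rw [Opens.coe_iSup, Set.mem_iUnion]
  simp only [SetLike.mem_coe, basicOpen_eq_of_affine']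
  constructor
  · rintro ⟨f, hf⟩ hq
    simp only [Iso.inv_hom_id_apply, PrimeSpectrum.mem_basicOpen] at hf
    exact hf (hq f.2)
  · intro hq
    obtain ⟨f, hf, hfq⟩ := Set.not_subset.1 hq
    refine ⟨⟨f, hf⟩, ?_⟩
    simp only [Iso.inv_hom_id_apply]
    exact hfq

omit [IsNoetherianRing A] in
/-- The punctured spectrum of a local ring. -/
theorem puncturedSpec_eq [IsLocalRing A] :
    FEt.puncturedSpec A = LocCoh.puncturedOpen A (IsLocalRing.maximalIdeal A) := by
  apply Opens.ext
  change ({IsLocalRing.closedPoint A}ᶜ : Set (PrimeSpectrum A)) = _ᶜ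
  congr 1
  ext q
  rw [Set.mem_singleton_iff, PrimeSpectrum.mem_zeroLocus]
  constructor
  · rintro rfl
    exact le_refl _
  · intro h
    exact PrimeSpectrum.ext ((IsLocalRing.maximalIdeal.isMaximal A).eq_of_le q.isPrime.ne_top h).symm

/-- On the punctured spectrum the points of relative codimension one are closed. -/
theorem isClosed_singleton_of_relCodim [IsLocalRing A] (x : (↑(FEt.puncturedSpec A) : Scheme.{u}))
    (h : SGA2.relCodim (IsLocalRing.maximalIdeal A) ((FEt.puncturedSpec A).ι.base x) = 1) :
    IsClosed ({x} : Set (↑(FEt.puncturedSpec A) : Scheme.{u})) := by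
  let p : PrimeSpectrum A := x.1
  have hp : ¬ IsLocalRing.maximalIdeal A ≤ p.asIdeal := fun hle =>
    x.2 (PrimeSpectrum.ext ((IsLocalRing.maximalIdeal.isMaximal A).eq_of_le p.isPrime.ne_top hle).symm)
  obtain ⟨q, hq, hpq⟩ :=
    (LC15.CritDepth.relCodim_eq_one_iff (IsLocalRing.maximalIdeal A) p hp).1 h
  rw [← closure_subset_iff_isClosed]
  intro y hy
  let y' : PrimeSpectrum A := y.1
  have hsp : p ≤ y' := by
    rw [PrimeSpectrum.le_iff_specializes]
    exact (specializes_iff_mem_closure.2 hy).map continuous_subtype_val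
  have hyq : y' ≤ q :=
    (IsLocalRing.le_maximalIdeal y'.isPrime.ne_top).trans hq
  rcases hpq.eq_or_eq hsp hyq with h1 | h1
  · exact Set.mem_singleton_iff.2 (Subtype.ext h1)
  · exact absurd (PrimeSpectrum.ext ((IsLocalRing.maximalIdeal.isMaximal A).eq_of_le
      y'.isPrime.ne_top (hq.trans_eq (congrArg PrimeSpectrum.asIdeal h1).symm)).symm : y' = IsLocalRing.closedPoint A) y.2

end Groth.Agent.FDepth18
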